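import Groth.Agent.EGA43Valuative.DominatingDVR
import Mathlib.RingTheory.ZariskisMainTheorem
import Mathlib.RingTheory.Valuation.LocalSubring
import Mathlib.RingTheory.IntegralClosure.IntegrallyClosed

/-!
# Normal local domains: quasi-finite subalgebras and dominating discrete valuation rings
-/

namespace Groth.Rat20Ext

open IsLocalRing IsDedekindDomain

universe u v

variable {A : Type u} [CommRing A] [IsDomain A] [IsLocalRing A] [IsIntegrallyClosed A]
  {K : Type v} [Field K] [Algebra A K] [IsFractionRing A K]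

/-- A finite type subalgebra of the fraction field of a normal local domain which is quasi-finite at
a prime over the maximal ideal is trivial. -/
theorem mem_range_of_quasiFiniteAt (C : Subalgebra A K) [Algebra.FiniteType A C] (P : Ideal C)
    [P.IsPrime] [Algebra.QuasiFiniteAt A P] (hP : P.comap (algebraMap A C) = maximalIdeal A)
    (c : C) : (c : K) ∈ (algebraMap A K).range := by
  obtain ⟨r, hrP, hr, H⟩ := Algebra.zariskisMainProperty_iff.1
    (Algebra.ZariskisMainProperty.of_finiteType (R := A) P)
  have key : ∀ x : C, IsIntegral A x → ∃ a : A, algebraMap A C a = x := by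
    intro x hx
    obtain ⟨a, ha⟩ := IsIntegrallyClosed.isIntegral_iff.1 (hx.map C.val)
    exact ⟨a, Subtype.ext ha⟩
  obtain ⟨a, rfl⟩ := key r hr
  have ha : IsUnit a := by
    rw [← notMem_maximalIdeal, ← hP]
    exact hrP
  obtain ⟨m, hm⟩ := H c
  obtain ⟨b, hb⟩ := key _ hm
  obtain ⟨w, hw⟩ := (ha.pow m).exists_left_inv
  refine ⟨w * b, ?_⟩
  have hwc : algebraMap A C (w * b) = c := by
    rw [map_mul, hb, ← map_pow, ← mul_assoc, ← map_mul, hw, map_one, one_mul]
  exact congrArg Subtype.val hwc

theorem not_isUnit_of_mem {C : Type*} [CommRing C] [IsDedekindDomain C] {L : Type v} [Field L]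
    [Algebra C L] [IsFractionRing C L] (p : HeightOneSpectrum C) {y : C} (hy : y ∈ p.asIdeal) :
    ¬ IsUnit (algebraMap C (HeightOneSpectrum.valuationSubringAtPrime L p) y) := fun hu =>
  (IsLocalization.AtPrime.isUnit_to_map_iff (HeightOneSpectrum.valuationSubringAtPrime L p)
    p.asIdeal y).1 hu hy

/-- A normal Noetherian local domain is the intersection of the discrete valuation rings of its
fraction field dominating it. -/
theorem exists_dvr_not_mem [IsNoetherianRing A] {c : K} (hc : c ∉ (algebraMap A K).range) :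
    ∃ R : ValuationSubring K, IsDiscreteValuationRing R ∧
      ∃ h : ∀ a, algebraMap A K a ∈ R,
        IsLocalHom ((algebraMap A K).codRestrict R.toSubring h) ∧ c ∉ R := by
  classical
  haveI : IsIntegrallyClosedIn (LocalSubring.range (algebraMap A K)).toSubring K := by
    have he : (LocalSubring.range (algebraMap A K)).toSubring = (algebraMap A K).range := by
      ext z
      rfl
    rw [he]
    refine Subring.isIntegrallyClosedIn_iff.2 fun {x} hx => ?_
    letI : Algebra A (algebraMap A K).range := (algebraMap A K).rangeRestrict.toAlgebra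
    haveI : IsScalarTower A (algebraMap A K).range K := IsScalarTower.of_algebraMap_eq fun _ => rfl
    haveI : Algebra.IsIntegral A (algebraMap A K).range :=
      Algebra.IsIntegral.of_surjective (Algebra.ofId A _) (algebraMap A K).rangeRestrict_surjective
    obtain ⟨a, ha⟩ := IsIntegrallyClosed.isIntegral_iff.1 (isIntegral_trans (R := A) x hx)
    exact ⟨a, ha⟩
  obtain ⟨V, ⟨hle, hloc⟩, hcV⟩ :=
    LocalSubring.exists_le_valuationSubring_of_isIntegrallyClosedIn
      (R := LocalSubring.range (algebraMap A K)) (x := c) hc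
  have hval : ∀ a ∈ maximalIdeal A, V.valuation (algebraMap A K a) < 1 := by
    intro a ha
    have haV : algebraMap A K a ∈ V := hle ⟨a, rfl⟩
    refine (V.valuation_lt_one_iff ⟨_, haV⟩).1 (by_contra fun hu => ?_)
    rw [IsLocalRing.notMem_maximalIdeal] at hu
    obtain ⟨⟨_, b, rfl⟩, hb⟩ := (hloc.map_nonunit ⟨_, a, rfl⟩ hu).exists_right_inv
    refine ha (IsUnit.of_mul_eq_one b (IsFractionRing.injective A K ?_))
    rw [map_mul, map_one]
    exact congrArg Subtype.val hb
  have hc0 : c ≠ 0 := fun h => hc (h ▸ zero_mem _)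
  have hcinv : c⁻¹ ∈ V := (V.mem_or_inv_mem c).resolve_left hcV
  let B : Subalgebra A K := Algebra.adjoin A {c⁻¹}
  have hBV : ∀ b : B, (b : K) ∈ V := by
    rintro ⟨b, hb⟩
    induction hb using Algebra.adjoin_induction with
    | mem x hx => rw [Set.mem_singleton_iff] at hx; exact hx ▸ hcinv
    | algebraMap a => exact hle ⟨a, rfl⟩
    | add x y _ _ hx hy => exact V.add_mem _ _ hx hy
    | mul x y _ _ hx hy => exact V.mul_mem _ _ hx hy
  let ι : B →+* V := (B.val.toRingHom).codRestrict V.toSubring hBV
  let P : Ideal B := (maximalIdeal V).comap ι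
  haveI : P.IsPrime := Ideal.IsPrime.comap _
  haveI : Algebra.FiniteType A B := (Subalgebra.fg_iff_finiteType B).1 ⟨{c⁻¹}, by simp [B]⟩
  haveI : IsNoetherianRing B := Algebra.FiniteType.isNoetherianRing A B
  let A' := Localization.subalgebra.ofField K P.primeCompl P.primeCompl_le_nonZeroDivisors
  haveI : IsLocalization.AtPrime A' P := Localization.subalgebra.isLocalization_ofField K _ _
  haveI : IsLocalRing A' := IsLocalization.AtPrime.isLocalRing A' P
  haveI : IsNoetherianRing A' := IsLocalization.isNoetherianRing P.primeCompl A' inferInstance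
  haveI : IsFractionRing A' K :=
    IsFractionRing.isFractionRing_of_isDomain_of_isLocalization P.primeCompl A' K
  let d : B := ⟨c⁻¹, Algebra.subset_adjoin rfl⟩
  have hdP : d ∈ P := by
    change ι d ∈ maximalIdeal V
    rw [mem_maximalIdeal, mem_nonunits_iff]
    intro hu
    obtain ⟨⟨w, hw⟩, hw1⟩ := hu.exists_right_inv
    have : w = c := by
      have h1 : c⁻¹ * w = 1 := congrArg Subtype.val hw1
      calc w = c * (c⁻¹ * w) := by rw [← mul_assoc, mul_inv_cancel₀ hc0, one_mul]
        _ = c := by rw [h1, mul_one]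
    exact hcV (this ▸ hw)
  have hnf : ¬ IsField A' := by
    intro hf
    have h1 : algebraMap B A' d ∈ maximalIdeal A' :=
      (IsLocalization.AtPrime.to_map_mem_maximal_iff A' P d).2 hdP
    rw [isField_iff_maximalIdeal_eq.1 hf, Ideal.mem_bot] at h1
    exact inv_ne_zero hc0 (congrArg Subtype.val h1)
  obtain ⟨C, M, hC, hCK, hM, hM0, hMA⟩ :=
    Groth.EGA43Val.exists_dvr_dominating_of_finite A' K hnf K
  haveI := hC
  haveI := hCK
  haveI := hM
  let p : HeightOneSpectrum C := ⟨M, hM.isPrime, hM0⟩
  let R := HeightOneSpectrum.valuationSubringAtPrime K p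
  have hAR : ∀ a, algebraMap A K a ∈ R := fun a =>
    (algebraMap C R (algebraMap A' C (algebraMap B A' (algebraMap A B a)))).2
  have hnu : ∀ b : B, b ∈ P → ∀ hb : (b : K) ∈ R, ¬ IsUnit (⟨(b : K), hb⟩ : R) := by
    intro b hb hbR hu
    have h1 : algebraMap A' C (algebraMap B A' b) ∈ M := by
      rw [← Ideal.mem_comap, hMA]
      exact (IsLocalization.AtPrime.to_map_mem_maximal_iff A' P b).2 hb
    refine not_isUnit_of_mem (L := K) p h1 ?_
    convert hu using 1
    exact Subtype.ext rfl
  refine ⟨R, Groth.EGA43Val.isDiscreteValuationRing_valuationSubringAtPrime p, hAR, ⟨fun a ha => ?_⟩,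
    fun hcR => ?_⟩
  · by_contra hna
    have haP : algebraMap A B a ∈ P :=
      (V.valuation_lt_one_iff (ι (algebraMap A B a))).2 (hval a hna)
    exact hnu _ haP (hAR a) ha
  · have hdR : (d : K) ∈ R := (algebraMap C R (algebraMap A' C (algebraMap B A' d))).2
    exact hnu d hdP hdR (IsUnit.of_mul_eq_one ⟨c, hcR⟩ (Subtype.ext (inv_mul_cancel₀ hc0)))

end Groth.Rat20Ext
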