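import Groth.Agent.Rat20Ext.Algebra
import Mathlib.AlgebraicGeometry.SpreadingOut
import Mathlib.AlgebraicGeometry.Morphisms.Separated
import Mathlib.AlgebraicGeometry.Morphisms.QuasiFinite
import Mathlib.AlgebraicGeometry.FunctionField

/-!
# Extending morphisms to a point with integral neighbourhood
-/

universe u

open CategoryTheory Limits AlgebraicGeometry TopologicalSpace IsLocalRing

namespace Groth.Rat20Ext

variable {X Y S : Scheme.{u}}

/-- The map to `X` from the spectrum of the fraction field of the local ring at `x`. -/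
noncomputable def genHom (x : X) [IsDomain (X.presheaf.stalk x)] :
    Spec (CommRingCat.of (FractionRing (X.presheaf.stalk x))) ⟶ X :=
  Spec.map (CommRingCat.ofHom (algebraMap (X.presheaf.stalk x) (FractionRing (X.presheaf.stalk x)))) ≫
    X.fromSpecStalk x

theorem genHom_specializes (x : X) [IsDomain (X.presheaf.stalk x)]
    (s : ↥(Spec (CommRingCat.of (FractionRing (X.presheaf.stalk x))))) {z : X} (hz : z ⤳ x) :
    genHom x s ⤳ z := by
  have : z ∈ Set.range (X.fromSpecStalk x) := by rw [Scheme.range_fromSpecStalk]; exact hz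
  obtain ⟨P, rfl⟩ := this
  change X.fromSpecStalk x _ ⤳ _
  refine Specializes.map ?_ (X.fromSpecStalk x).continuous
  refine (PrimeSpectrum.le_iff_specializes _ _).1 ?_
  intro a ha
  have h0 : algebraMap (X.presheaf.stalk x) (FractionRing (X.presheaf.stalk x)) a ∈
      (s : PrimeSpectrum (FractionRing (X.presheaf.stalk x))).asIdeal := ha
  let sp : PrimeSpectrum (FractionRing (X.presheaf.stalk x)) := s
  rw [show (s : PrimeSpectrum (FractionRing (X.presheaf.stalk x))).asIdeal = ⊥ from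
    Ideal.eq_bot_of_prime sp.asIdeal, Ideal.mem_bot] at h0
  rw [(IsFractionRing.injective _ (FractionRing (X.presheaf.stalk x))).eq_iff' (map_zero _)] at h0
  exact h0 ▸ zero_mem _

theorem genHom_specializes_self (x : X) [IsDomain (X.presheaf.stalk x)]
    (s : ↥(Spec (CommRingCat.of (FractionRing (X.presheaf.stalk x))))) : genHom x s ⤳ x :=
  genHom_specializes x s specializes_rfl

/-- In an integral neighbourhood of `x`, every point is a specialization of the generic point of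
the local ring at `x`. -/
theorem genHom_specializes_of_mem {x : X} [IsDomain (X.presheaf.stalk x)] {W : X.Opens}
    [IsIntegral (W : Scheme.{u})] (hxW : x ∈ W)
    (s : ↥(Spec (CommRingCat.of (FractionRing (X.presheaf.stalk x))))) {z : X} (hz : z ∈ W) :
    genHom x s ⤳ z := by
  have h : ∀ y : (W : Scheme.{u}), W.ι (genericPoint (W : Scheme.{u})) ⤳ W.ι y := fun y =>
    (genericPoint_specializes y).map W.ι.continuous
  exact (genHom_specializes x s (h ⟨x, hxW⟩)).trans (h ⟨z, hz⟩)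

theorem genHom_mem {x : X} [IsDomain (X.presheaf.stalk x)] {W : X.Opens}
    [IsIntegral (W : Scheme.{u})] (hxW : x ∈ W) {U : X.Opens} (hU : Dense (U : Set X))
    (s : ↥(Spec (CommRingCat.of (FractionRing (X.presheaf.stalk x))))) : genHom x s ∈ U := by
  obtain ⟨z, hzW, hzU⟩ := hU.inter_open_nonempty W W.2 ⟨x, hxW⟩
  exact (genHom_specializes_of_mem hxW s hzW).mem_open U.2 hzU

theorem exists_genLift {x : X} [IsDomain (X.presheaf.stalk x)] {W : X.Opens}
    [IsIntegral (W : Scheme.{u})] (hxW : x ∈ W) {U : X.Opens} (hU : Dense (U : Set X)) :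
    ∃ j : Spec (CommRingCat.of (FractionRing (X.presheaf.stalk x))) ⟶ (U : Scheme.{u}),
      j ≫ U.ι = genHom x :=
  ⟨IsOpenImmersion.lift U.ι (genHom x) (by
      rintro _ ⟨s, rfl⟩
      rw [Scheme.Opens.range_ι]
      exact genHom_mem hxW hU s),
    IsOpenImmersion.lift_fac _ _ _⟩

/-- Two morphisms on an open subset of an integral neighbourhood of `x` which agree at the generic
point are equal. -/
theorem ext_of_genHom {x : X} [IsDomain (X.presheaf.stalk x)] {W : X.Opens}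
    [IsIntegral (W : Scheme.{u})] (hxW : x ∈ W) {Z : X.Opens} (hZW : Z ≤ W)
    {j : Spec (CommRingCat.of (FractionRing (X.presheaf.stalk x))) ⟶ (Z : Scheme.{u})}
    (hj : j ≫ Z.ι = genHom x) (pY : Y ⟶ S) [IsSeparated pY] {a b : (Z : Scheme.{u}) ⟶ Y}
    (hab : a ≫ pY = b ≫ pY) (h : j ≫ a = j ≫ b) : a = b := by
  haveI : IsReduced (Z : Scheme.{u}) := isReduced_of_isOpenImmersion (X.homOfLE hZW)
  haveI : IsDominant j := by
    constructor
    intro z
    let s : ↥(Spec (CommRingCat.of (FractionRing (X.presheaf.stalk x)))) :=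
      IsLocalRing.closedPoint (FractionRing (X.presheaf.stalk x))
    have hs : Z.ι (j s) = genHom x s := by rw [← Scheme.Hom.comp_apply, hj]
    have h1 : j s ⤳ z := by
      rw [← Z.ι.isOpenEmbedding.isInducing.specializes_iff, hs]
      exact genHom_specializes_of_mem hxW s (hZW z.2)
    exact closure_mono (Set.singleton_subset_iff.2 (Set.mem_range_self s))
      (specializes_iff_mem_closure.1 h1)
  exact ext_of_isDominant_of_isSeparated pY hab j h

/-- Glue two compatible morphisms. -/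
theorem exists_glue_sup (U V : X.Opens) (a : (U : Scheme.{u}) ⟶ Y) (b : (V : Scheme.{u}) ⟶ Y)
    (h : X.homOfLE (inf_le_right : U ⊓ V ≤ V) ≫ b = X.homOfLE (inf_le_left : U ⊓ V ≤ U) ≫ a) :
    ∃ c : (↑(U ⊔ V) : Scheme.{u}) ⟶ Y, X.homOfLE (le_sup_left : U ≤ U ⊔ V) ≫ c = a ∧
      X.homOfLE (le_sup_right : V ≤ U ⊔ V) ≫ c = b := by
  let W : Bool → X.Opens := fun i => cond i U V
  have hW : (⨆ i, W i) = U ⊔ V := iSup_bool_eq
  let f : ∀ i : Bool, (W i : Scheme.{u}) ⟶ Y := fun i =>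
    match i with
    | true => a
    | false => b
  have key : ∀ i k : Bool, X.homOfLE (inf_le_left : W i ⊓ W k ≤ W i) ≫ f i =
      X.homOfLE (inf_le_right : W i ⊓ W k ≤ W k) ≫ f k := by
    intro i k
    cases i <;> cases k
    · rfl
    · change X.homOfLE (inf_le_left : V ⊓ U ≤ V) ≫ b = X.homOfLE (inf_le_right : V ⊓ U ≤ U) ≫ a
      have := congrArg (fun m => X.homOfLE (le_of_eq (inf_comm V U) : V ⊓ U ≤ U ⊓ V) ≫ m) h
      simpa only [← Category.assoc, Scheme.homOfLE_homOfLE] using this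
    · exact h.symm
    · rfl
  let 𝒰 := Scheme.Opens.iSupOpenCover W
  have hc : ∀ i k : Bool, pullback.fst (𝒰.f i) (𝒰.f k) ≫ f i =
      pullback.snd (𝒰.f i) (𝒰.f k) ≫ f k := by
    intro i k
    refine (cancel_epi (isPullback_opens_inf_le (le_iSup W i) (le_iSup W k)).isoPullback.hom).mp ?_
    simp only [𝒰, Scheme.Opens.iSupOpenCover, IsPullback.isoPullback_hom_fst_assoc,
      IsPullback.isoPullback_hom_snd_assoc]
    exact key i k
  refine ⟨X.homOfLE hW.ge ≫ 𝒰.glueMorphisms f hc, ?_, ?_⟩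
  · rw [← Category.assoc, Scheme.homOfLE_homOfLE]
    exact 𝒰.ι_glueMorphisms f hc true
  · rw [← Category.assoc, Scheme.homOfLE_homOfLE]
    exact 𝒰.ι_glueMorphisms f hc false

theorem comp_eq_of_sup (U V : X.Opens) {q : Y ⟶ X} {a : (U : Scheme.{u}) ⟶ Y}
    {b : (V : Scheme.{u}) ⟶ Y} (c : (↑(U ⊔ V) : Scheme.{u}) ⟶ Y) (ha : a ≫ q = U.ι)
    (hb : b ≫ q = V.ι) (hcU : X.homOfLE (le_sup_left : U ≤ U ⊔ V) ≫ c = a)
    (hcV : X.homOfLE (le_sup_right : V ≤ U ⊔ V) ≫ c = b) : c ≫ q = (U ⊔ V).ι := by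
  let W : Bool → X.Opens := fun i => cond i U V
  have hW : (⨆ i, W i) = U ⊔ V := iSup_bool_eq
  suffices h : X.homOfLE hW.le ≫ c ≫ q = X.homOfLE hW.le ≫ (U ⊔ V).ι by
    have := congrArg (fun m => X.homOfLE hW.ge ≫ m) h
    simpa only [Scheme.homOfLE_homOfLE_assoc, Scheme.homOfLE_rfl, Category.id_comp] using this
  refine (Scheme.Opens.iSupOpenCover W).hom_ext _ _ fun i => ?_
  cases i
  · change X.homOfLE (le_iSup W false) ≫ X.homOfLE hW.le ≫ c ≫ q =
      X.homOfLE (le_iSup W false) ≫ X.homOfLE hW.le ≫ (U ⊔ V).ι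
    rw [Scheme.homOfLE_homOfLE_assoc, Scheme.homOfLE_homOfLE_assoc, Scheme.homOfLE_ι,
      reassoc_of% hcV, hb]
    rfl
  · change X.homOfLE (le_iSup W true) ≫ X.homOfLE hW.le ≫ c ≫ q =
      X.homOfLE (le_iSup W true) ≫ X.homOfLE hW.le ≫ (U ⊔ V).ι
    rw [Scheme.homOfLE_homOfLE_assoc, Scheme.homOfLE_homOfLE_assoc, Scheme.homOfLE_ι,
      reassoc_of% hcU, ha]
    rfl

/-- A morphism on the local scheme at `x` agreeing with `h` at the generic point spreads out to a
morphism near `x` agreeing with `h` on the common domain. -/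
theorem exists_extend_of_specStalk (pX : X ⟶ S) (pY : Y ⟶ S) [LocallyOfFiniteType pY]
    [IsSeparated pY] {x : X} [IsDomain (X.presheaf.stalk x)] {W : X.Opens}
    [IsIntegral (W : Scheme.{u})] (hxW : x ∈ W) (U : X.Opens) (h : (U : Scheme.{u}) ⟶ Y)
    (hh : h ≫ pY = U.ι ≫ pX)
    (j : Spec (CommRingCat.of (FractionRing (X.presheaf.stalk x))) ⟶ (U : Scheme.{u}))
    (hj : j ≫ U.ι = genHom x) (w : Spec (X.presheaf.stalk x) ⟶ Y)
    (hw : w ≫ pY = X.fromSpecStalk x ≫ pX)
    (hgen : Spec.map (CommRingCat.ofHom (algebraMap (X.presheaf.stalk x)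
      (FractionRing (X.presheaf.stalk x)))) ≫ w = j ≫ h) :
    ∃ (V : X.Opens) (hxV : x ∈ V) (v : (V : Scheme.{u}) ⟶ Y), V ≤ W ∧ v ≫ pY = V.ι ≫ pX ∧
      V.fromSpecStalkOfMem x hxV ≫ v = w ∧
      X.homOfLE (inf_le_right : U ⊓ V ≤ V) ≫ v = X.homOfLE (inf_le_left : U ⊓ V ≤ U) ≫ h := by
  haveI : X.IsGermInjectiveAt x := inferInstanceAs (X.IsGermInjectiveAt (W.ι ⟨x, hxW⟩))
  obtain ⟨V₀, hxV₀, f, hf₁, hf₂⟩ := spread_out_of_isGermInjective' pX pY w hw
  let V : X.Opens := V₀ ⊓ W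
  have hxV : x ∈ V := ⟨hxV₀, hxW⟩
  let v : (V : Scheme.{u}) ⟶ Y := X.homOfLE (inf_le_left : V ≤ V₀) ≫ f
  have hvw : V.fromSpecStalkOfMem x hxV ≫ v = w := by
    rw [hf₁, ← Category.assoc]
    congr 1
    rw [← cancel_mono V₀.ι, Category.assoc, Scheme.homOfLE_ι, Scheme.Opens.fromSpecStalkOfMem_ι,
      Scheme.Opens.fromSpecStalkOfMem_ι]
  have hvp : v ≫ pY = V.ι ≫ pX := by
    rw [Category.assoc, hf₂, ← Category.assoc, Scheme.homOfLE_ι]
  refine ⟨V, hxV, v, inf_le_right, hvp, hvw, ?_⟩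
  let jV : Spec (CommRingCat.of (FractionRing (X.presheaf.stalk x))) ⟶ (V : Scheme.{u}) :=
    Spec.map (CommRingCat.ofHom (algebraMap (X.presheaf.stalk x)
      (FractionRing (X.presheaf.stalk x)))) ≫ V.fromSpecStalkOfMem x hxV
  have hjV : jV ≫ V.ι = genHom x := by
    rw [Category.assoc, Scheme.Opens.fromSpecStalkOfMem_ι]; rfl
  have hrg : Set.range (genHom x) ⊆ Set.range (U ⊓ V).ι := by
    rintro _ ⟨s, rfl⟩
    rw [Scheme.Opens.range_ι]
    refine ⟨?_, ?_⟩
    · rw [← hj, Scheme.Hom.comp_apply]; exact (j s).2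
    · rw [← hjV, Scheme.Hom.comp_apply]; exact (jV s).2
  let jZ := IsOpenImmersion.lift (U ⊓ V).ι (genHom x) hrg
  have hjZ : jZ ≫ (U ⊓ V).ι = genHom x := IsOpenImmersion.lift_fac _ _ _
  have h1 : jZ ≫ X.homOfLE (inf_le_right : U ⊓ V ≤ V) = jV := by
    rw [← cancel_mono V.ι, Category.assoc, Scheme.homOfLE_ι, hjZ, hjV]
  have h2 : jZ ≫ X.homOfLE (inf_le_left : U ⊓ V ≤ U) = j := by
    rw [← cancel_mono U.ι, Category.assoc, Scheme.homOfLE_ι, hjZ, hj]
  refine ext_of_genHom hxW (inf_le_right.trans inf_le_right) hjZ pY ?_ ?_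
  · rw [Category.assoc, hvp, Category.assoc, hh, ← Category.assoc, Scheme.homOfLE_ι,
      ← Category.assoc, Scheme.homOfLE_ι]
  · exact ((reassoc_of% h1) v).trans
      (((Category.assoc _ _ _).trans ((congrArg _ hvw).trans hgen)).trans ((reassoc_of% h2) h).symm)

/-- A morphism from a spectrum into an affine open is given by a ring map. -/
theorem exists_affine_factor {W : Y.Opens} (hW : IsAffineOpen W) {R : CommRingCat.{u}}
    (g : Spec R ⟶ Y) (hg : ∀ s, g s ∈ W) :
    ∃ φ : Γ(Y, W) ⟶ R, Spec.map φ ≫ hW.fromSpec = g :=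
  ⟨Spec.preimage (IsOpenImmersion.lift hW.fromSpec g
      (by rw [hW.range_fromSpec]; rintro _ ⟨s, rfl⟩; exact hg s)),
    by rw [Spec.map_preimage, IsOpenImmersion.lift_fac]⟩

theorem affine_hom_inj {W : Y.Opens} (hW : IsAffineOpen W) {R : CommRingCat.{u}}
    {a b : Γ(Y, W) ⟶ R} (h : Spec.map a ≫ hW.fromSpec = Spec.map b ≫ hW.fromSpec) : a = b :=
  Spec.map_injective ((cancel_mono hW.fromSpec).1 h)

end Groth.Rat20Ext
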