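import Groth.Agent.Rat20Ext.Scheme

/-!
# Zariski's main theorem for sections at a normal point
-/

universe u

open CategoryTheory Limits AlgebraicGeometry TopologicalSpace IsLocalRing

namespace Groth.Rat20Ext

variable {X Y : Scheme.{u}}

theorem exists_hom_of_isolated (q : Y ⟶ X) [LocallyOfFiniteType q] {x : X}
    [IsDomain (X.presheaf.stalk x)] (hx : IsIntegrallyClosed (X.presheaf.stalk x))
    (g : Spec (CommRingCat.of (FractionRing (X.presheaf.stalk x))) ⟶ Y) (hg : g ≫ q = genHom x)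
    (y : Y) (hqy : q y = x) (hy : ∀ s, g s ⤳ y) (O : Y.Opens) (hyO : y ∈ O)
    (hO : ∀ z ∈ O, (∀ s, g s ⤳ z) → q z = x → z = y) :
    ∃ w : Spec (X.presheaf.stalk x) ⟶ Y, w ≫ q = X.fromSpecStalk x ∧
      Spec.map (CommRingCat.ofHom (algebraMap (X.presheaf.stalk x)
        (FractionRing (X.presheaf.stalk x)))) ≫ w = g ∧
      w (IsLocalRing.closedPoint (X.presheaf.stalk x)) = y := by
  classical
  let alg := algebraMap (X.presheaf.stalk x) (FractionRing (X.presheaf.stalk x))
  have halg : Function.Injective alg := IsFractionRing.injective _ _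
  obtain ⟨_, ⟨V0, hV0, rfl⟩, hxV0, -⟩ :=
    X.isBasis_affineOpens.exists_subset_of_mem_open (Set.mem_univ x) isOpen_univ
  obtain ⟨_, ⟨W, hW, rfl⟩, hyW, hWV⟩ := Y.isBasis_affineOpens.exists_subset_of_mem_open
    (show y ∈ q ⁻¹ᵁ V0 from (show q y ∈ V0 from hqy.symm ▸ hxV0)) (q ⁻¹ᵁ V0).2
  obtain ⟨ψ', hψ⟩ := exists_affine_factor hW g fun s => (hy s).mem_open W.2 hyW
  let ψ : Γ(Y, W) →+* FractionRing (X.presheaf.stalk x) := ψ'.hom
  let γ := (X.presheaf.germ V0 x hxV0).hom
  let ap := (q.appLE V0 W hWV).hom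
  have hγ : X.fromSpecStalk x = Spec.map (X.presheaf.germ V0 x hxV0) ≫ hV0.fromSpec :=
    (hV0.fromSpecStalk_eq_fromSpecStalk hxV0).symm
  have hcompat' : q.appLE V0 W hWV ≫ ψ' =
      X.presheaf.germ V0 x hxV0 ≫ CommRingCat.ofHom alg := by
    refine affine_hom_inj hV0 ?_
    rw [Spec.map_comp, Spec.map_comp, Category.assoc, Category.assoc,
      IsAffineOpen.SpecMap_appLE_fromSpec q hV0 hW hWV, reassoc_of% hψ, hg, ← hγ]
    rfl
  have hcompat : ∀ r, ψ (ap r) = alg (γ r) := fun r =>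
    congr($(hcompat').hom r)
  let px := hV0.primeIdealOf ⟨x, hxV0⟩
  let py := hW.primeIdealOf ⟨y, hyW⟩
  have hpy : hW.fromSpec py = y := hW.fromSpec_primeIdealOf ⟨y, hyW⟩
  have hpx : hV0.fromSpec px = x := hV0.fromSpec_primeIdealOf ⟨x, hxV0⟩
  have hapx : ∀ r, ap r ∈ py.asIdeal ↔ r ∈ px.asIdeal := by
    intro r
    have h1 : hV0.fromSpec (Spec.map (q.appLE V0 W hWV) py) = hV0.fromSpec px := by
      rw [← Scheme.Hom.comp_apply, IsAffineOpen.SpecMap_appLE_fromSpec q hV0 hW hWV,
        Scheme.Hom.comp_apply, hpy, hpx, hqy]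
    have h2 : PrimeSpectrum.comap ap py = px := hV0.fromSpec.isOpenEmbedding.injective h1
    rw [← h2]
    rfl
  have hγx : ∀ r, γ r ∈ maximalIdeal (X.presheaf.stalk x) ↔ r ∈ px.asIdeal := by
    intro r
    have h1 : hV0.fromSpec (Spec.map (X.presheaf.germ V0 x hxV0)
        (closedPoint (X.presheaf.stalk x))) = hV0.fromSpec px := by
      rw [← Scheme.Hom.comp_apply, ← hγ, Scheme.fromSpecStalk_closedPoint, hpx]
    have h2 : PrimeSpectrum.comap γ (closedPoint (X.presheaf.stalk x)) = px :=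
      hV0.fromSpec.isOpenEmbedding.injective h1
    rw [← h2]
    rfl
  have hker : ∀ b, ψ b = 0 → b ∈ py.asIdeal := by
    intro b hb
    let s : ↥(Spec (CommRingCat.of (FractionRing (X.presheaf.stalk x)))) :=
      closedPoint (FractionRing (X.presheaf.stalk x))
    have h1 : hW.fromSpec (Spec.map ψ' s) ⤳ hW.fromSpec py := by
      rw [← Scheme.Hom.comp_apply, hψ, hpy]
      exact hy s
    have h2 := (PrimeSpectrum.le_iff_specializes (PrimeSpectrum.comap ψ
      (closedPoint (FractionRing (X.presheaf.stalk x)))) py).2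
      (hW.fromSpec.isOpenEmbedding.isInducing.specializes_iff.1 h1)
    refine h2 ?_
    change ψ b ∈ maximalIdeal (FractionRing (X.presheaf.stalk x))
    rw [hb]
    exact zero_mem _
  let f : Localization.AtPrime py.asIdeal →+* FractionRing (X.presheaf.stalk x) :=
    IsLocalization.lift (M := py.asIdeal.primeCompl) (g := ψ)
      fun b => isUnit_iff_ne_zero.2 fun h => b.2 (hker b.1 h)
  obtain ⟨V, hfV, hlocal⟩ := IsLocalRing.exists_factor_valuationRing f
  have hψV : ∀ b, ψ b ∈ V := by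
    intro b
    have := hfV (algebraMap _ (Localization.AtPrime py.asIdeal) b)
    rwa [IsLocalization.lift_eq] at this
  let ψV : Γ(Y, W) →+* V := ψ.codRestrict V.toSubring hψV
  have hψVu : ∀ b, IsUnit (ψV b) ↔ b ∉ py.asIdeal := by
    intro b
    have he : ψV b = f.codRestrict V.toSubring hfV
        (algebraMap _ (Localization.AtPrime py.asIdeal) b) :=
      Subtype.ext (IsLocalization.lift_eq _ b).symm
    rw [he]
    exact ⟨fun h => (IsLocalization.AtPrime.isUnit_to_map_iff (Localization.AtPrime py.asIdeal)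
        py.asIdeal b).1 (hlocal.map_nonunit _ h),
      fun h => ((IsLocalization.AtPrime.isUnit_to_map_iff (Localization.AtPrime py.asIdeal)
        py.asIdeal b).2 h).map _⟩
  letI := X.presheaf.algebra_section_stalk ⟨x, hxV0⟩
  haveI : IsLocalization.AtPrime (X.presheaf.stalk x) px.asIdeal :=
    hV0.isLocalization_stalk ⟨x, hxV0⟩
  have hAV : ∀ a, alg a ∈ V := by
    intro a
    obtain ⟨⟨r, σ, hσ⟩, h⟩ := IsLocalization.surj px.asIdeal.primeCompl a
    have hu : IsUnit (ψV (ap σ)) := (hψVu _).2 fun hm => hσ ((hapx σ).1 hm)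
    obtain ⟨⟨w, hw⟩, hw1⟩ := hu.exists_right_inv
    have h' : alg a * ψ (ap σ) = ψ (ap r) := by
      rw [hcompat, hcompat, ← map_mul]
      exact congrArg alg h
    have hw1' : ψ (ap σ) * w = 1 := congrArg Subtype.val hw1
    have : alg a = ψ (ap r) * w := by rw [← h', mul_assoc, hw1', mul_one]
    rw [this]
    exact V.mul_mem _ _ (hψV _) hw
  have hft : ap.FiniteType := q.finiteType_appLE hV0 hW hWV
  letI := ap.toAlgebra
  obtain ⟨gens, hgens⟩ := hft
  let C : Subalgebra (X.presheaf.stalk x) (FractionRing (X.presheaf.stalk x)) :=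
    Algebra.adjoin (X.presheaf.stalk x) (ψ '' gens)
  haveI : Algebra.FiniteType (X.presheaf.stalk x) C :=
    (Subalgebra.fg_iff_finiteType C).1 ⟨gens.image ψ, by simp [C]⟩
  have hψC : ∀ b, ψ b ∈ C := by
    intro b
    have hb : b ∈ Algebra.adjoin Γ(X, V0) (gens : Set Γ(Y, W)) := hgens ▸ Algebra.mem_top
    induction hb using Algebra.adjoin_induction with
    | mem b hb => exact Algebra.subset_adjoin ⟨b, hb, rfl⟩
    | algebraMap r => rw [RingHom.algebraMap_toAlgebra, hcompat]; exact C.algebraMap_mem _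
    | add a b _ _ ha hb => rw [map_add]; exact C.add_mem ha hb
    | mul a b _ _ ha hb => rw [map_mul]; exact C.mul_mem ha hb
  let ψC : Γ(Y, W) →+* C := ψ.codRestrict C.toSubring hψC
  have hCform : ∀ c : C, ∃ σ, σ ∉ px.asIdeal ∧ ∃ b, algebraMap _ C (γ σ) * c = ψC b := by
    rintro ⟨c, hc⟩
    suffices ∃ σ, σ ∉ px.asIdeal ∧ ∃ b, alg (γ σ) * c = ψ b by
      obtain ⟨σ, hσ, b, hb⟩ := this
      exact ⟨σ, hσ, b, Subtype.ext hb⟩
    induction hc using Algebra.adjoin_induction with
    | mem c hc =>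
      obtain ⟨b, -, rfl⟩ := hc
      exact ⟨1, px.asIdeal.primeCompl.one_mem, b, by rw [map_one, map_one, one_mul]⟩
    | algebraMap a =>
      obtain ⟨⟨r, σ, hσ⟩, h⟩ := IsLocalization.surj px.asIdeal.primeCompl a
      refine ⟨σ, hσ, ap r, ?_⟩
      rw [hcompat, mul_comm, ← map_mul]
      exact congrArg alg h
    | add c d _ _ hc hd =>
      obtain ⟨σ, hσ, b, hb⟩ := hc
      obtain ⟨τ, hτ, b', hb'⟩ := hd
      refine ⟨σ * τ, px.asIdeal.primeCompl.mul_mem hσ hτ, ap τ * b + ap σ * b', ?_⟩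
      rw [map_mul γ, map_mul alg, map_add, map_mul ψ, map_mul ψ, hcompat, hcompat, ← hb, ← hb']
      ring
    | mul c d _ _ hc hd =>
      obtain ⟨σ, hσ, b, hb⟩ := hc
      obtain ⟨τ, hτ, b', hb'⟩ := hd
      refine ⟨σ * τ, px.asIdeal.primeCompl.mul_mem hσ hτ, b * b', ?_⟩
      rw [map_mul γ, map_mul alg, map_mul ψ, ← hb, ← hb']
      ring
  have hCV : ∀ c : C, (c : FractionRing (X.presheaf.stalk x)) ∈ V := by
    rintro ⟨c, hc⟩
    induction hc using Algebra.adjoin_induction with
    | mem c hc => obtain ⟨b, -, rfl⟩ := hc; exact hψV b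
    | algebraMap a => exact hAV a
    | add c d _ _ hc hd => exact V.add_mem _ _ hc hd
    | mul c d _ _ hc hd => exact V.mul_mem _ _ hc hd
  let ιC : C →+* V := C.val.toRingHom.codRestrict V.toSubring hCV
  let P : Ideal C := (maximalIdeal V).comap ιC
  haveI : P.IsPrime := Ideal.IsPrime.comap _
  have hPB : ∀ b, ψC b ∈ P ↔ b ∈ py.asIdeal := by
    intro b
    change ιC (ψC b) ∈ maximalIdeal V ↔ _
    rw [mem_maximalIdeal, mem_nonunits_iff, show ιC (ψC b) = ψV b from Subtype.ext rfl, hψVu,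
      not_not]
  have hPA : P.comap (algebraMap _ C) = maximalIdeal (X.presheaf.stalk x) := by
    refine ((maximalIdeal.isMaximal _).eq_of_le (Ideal.comap_ne_top _ ‹P.IsPrime›.ne_top)
      fun a ha => ?_).symm
    obtain ⟨⟨r, σ, hσ⟩, h⟩ := IsLocalization.surj px.asIdeal.primeCompl a
    have hr : r ∈ px.asIdeal := by
      rw [← hγx]
      have h' : a * γ σ = γ r := h
      rw [← h']
      exact Ideal.mul_mem_right _ _ ha
    have h1 : algebraMap _ C a * ψC (ap σ) ∈ P := by
      have : algebraMap _ C a * ψC (ap σ) = ψC (ap r) := Subtype.ext (by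
        change alg a * ψ (ap σ) = ψ (ap r)
        rw [hcompat, hcompat, ← map_mul]
        exact congrArg alg h)
      rw [this, hPB, hapx]
      exact hr
    exact ((‹P.IsPrime›).mem_or_mem h1).resolve_right fun hm => hσ ((hapx σ).1 ((hPB _).1 hm))
  have hinjC : ∀ p p' : PrimeSpectrum C,
      PrimeSpectrum.comap ψC p = PrimeSpectrum.comap ψC p' → p = p' := by
    intro p p' h
    ext c
    obtain ⟨σ, hσ, b, hb⟩ := hCform c
    have hu : IsUnit (algebraMap _ C (γ σ)) :=
      (notMem_maximalIdeal.1 fun hm => hσ ((hγx σ).1 hm)).map _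
    rw [← Ideal.unit_mul_mem_iff_mem _ hu, hb, ← Ideal.unit_mul_mem_iff_mem p'.asIdeal hu, hb]
    exact SetLike.ext_iff.1 (congrArg PrimeSpectrum.asIdeal h) b
  haveI : Algebra.QuasiFiniteAt (X.presheaf.stalk x) P := by
    refine Algebra.QuasiFiniteAt.of_isOpen_singleton_fiber ⟨P, inferInstance⟩ ?_
    have hmem : ∀ p' : PrimeSpectrum C,
        PrimeSpectrum.comap (algebraMap (X.presheaf.stalk x) C) p' =
          PrimeSpectrum.comap (algebraMap (X.presheaf.stalk x) C) ⟨P, inferInstance⟩ →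
        hW.fromSpec (PrimeSpectrum.comap ψC p') ∈ O → p' = ⟨P, inferInstance⟩ := by
      intro p' hp' hO'
      have hqz : q (hW.fromSpec (PrimeSpectrum.comap ψC p')) = x := by
        rw [← Scheme.Hom.comp_apply, ← IsAffineOpen.SpecMap_appLE_fromSpec q hV0 hW hWV,
          Scheme.Hom.comp_apply]
        refine Eq.trans (congrArg hV0.fromSpec ?_) hpx
        refine PrimeSpectrum.ext (Ideal.ext fun r => ?_)
        change ψC (ap r) ∈ p'.asIdeal ↔ _
        rw [show ψC (ap r) = algebraMap _ C (γ r) from Subtype.ext (hcompat r), ← hγx]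
        have h3 : p'.asIdeal.comap (algebraMap _ C) = maximalIdeal (X.presheaf.stalk x) :=
          (congrArg PrimeSpectrum.asIdeal hp').trans hPA
        exact SetLike.ext_iff.1 h3 (γ r)
      have hspec : ∀ s, g s ⤳ hW.fromSpec (PrimeSpectrum.comap ψC p') := by
        intro s
        rw [← hψ, Scheme.Hom.comp_apply]
        refine Specializes.map ((PrimeSpectrum.le_iff_specializes
          (PrimeSpectrum.comap ψ (s : PrimeSpectrum (FractionRing (X.presheaf.stalk x))))
          (PrimeSpectrum.comap ψC p')).1 ?_) hW.fromSpec.continuous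
        intro b hb
        have hb' : ψ b ∈ (s : PrimeSpectrum (FractionRing (X.presheaf.stalk x))).asIdeal := hb
        rw [show (s : PrimeSpectrum (FractionRing (X.presheaf.stalk x))).asIdeal = ⊥ from
          Ideal.eq_bot_of_prime (I := (s : PrimeSpectrum (FractionRing (X.presheaf.stalk x))).asIdeal),
          Ideal.mem_bot] at hb'
        change ψC b ∈ p'.asIdeal
        rw [show ψC b = 0 from Subtype.ext hb']
        exact zero_mem _
      have h2 := (hO _ hO' hspec hqz).trans hpy.symm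
      have h3 := hW.fromSpec.isOpenEmbedding.injective h2
      refine hinjC _ _ (h3.trans ?_)
      exact PrimeSpectrum.ext (Ideal.ext fun b => (hPB b).symm)
    rw [isOpen_induced_iff]
    refine ⟨(fun p' : PrimeSpectrum C => hW.fromSpec (PrimeSpectrum.comap ψC p')) ⁻¹' O,
      O.2.preimage (hW.fromSpec.continuous.comp (PrimeSpectrum.continuous_comap ψC)), ?_⟩
    ext ⟨p', hp'⟩
    refine ⟨fun h => Subtype.ext (hmem p' hp' h), fun h => ?_⟩
    rw [Set.mem_singleton_iff, Subtype.mk.injEq] at h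
    subst h
    change hW.fromSpec (PrimeSpectrum.comap ψC _) ∈ O
    rw [show PrimeSpectrum.comap ψC (⟨P, inferInstance⟩ : PrimeSpectrum C) = py from
      PrimeSpectrum.ext (Ideal.ext hPB), hpy]
    exact hyO
  haveI := hx
  have hψA : ∀ b, ψ b ∈ alg.range := fun b => mem_range_of_quasiFiniteAt C P hPA (ψC b)
  let e : X.presheaf.stalk x ≃+* alg.range := RingEquiv.ofBijective alg.rangeRestrict
    ⟨fun a b h => halg (congrArg Subtype.val h), alg.rangeRestrict_surjective⟩
  let ψA : Γ(Y, W) →+* X.presheaf.stalk x :=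
    e.symm.toRingHom.comp (ψ.codRestrict alg.range hψA)
  have hψA' : ∀ b, alg (ψA b) = ψ b := fun b =>
    congrArg Subtype.val (e.apply_symm_apply ⟨ψ b, hψA b⟩)
  refine ⟨Spec.map (CommRingCat.ofHom ψA) ≫ hW.fromSpec, ?_, ?_, ?_⟩
  · rw [Category.assoc, ← IsAffineOpen.SpecMap_appLE_fromSpec q hV0 hW hWV, ← Spec.map_comp_assoc,
      hγ]
    congr 2
    ext r
    exact halg ((hψA' (ap r)).trans (hcompat r))
  · rw [← Spec.map_comp_assoc, ← hψ]
    congr 2
    ext b
    exact hψA' b
  · rw [Scheme.Hom.comp_apply]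
    refine Eq.trans (congrArg hW.fromSpec ?_) hpy
    refine PrimeSpectrum.ext (Ideal.ext fun b => ?_)
    change ψA b ∈ maximalIdeal (X.presheaf.stalk x) ↔ _
    rw [← hPA, Ideal.mem_comap,
      show algebraMap _ C (ψA b) = ψC b from Subtype.ext (hψA' b), hPB]

end Groth.Rat20Ext
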