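import Mathlib.Topology.NoetherianSpace
import Mathlib.Topology.Sober

/-!
# Closures of closed subsets of open subsets of Noetherian sober spaces
-/

namespace Groth.Rat20Ext

open TopologicalSpace

/-- If `T` is closed in the open `U` of a Noetherian sober space, a point of its closure is a
specialization of a point of `T`. -/
theorem exists_specializes_of_mem_closure {α : Type*} [TopologicalSpace α] [NoetherianSpace α]
    [QuasiSober α] {U T : Set α} (hU : IsOpen U) (hT : T ⊆ U) (hT' : closure T ∩ U ⊆ T)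
    {x : α} (hx : x ∈ closure T) : ∃ z ∈ T, z ⤳ x := by
  obtain ⟨S, hSf, hSc, hSi, hST⟩ :=
    NoetherianSpace.exists_finite_set_isClosed_irreducible (isClosed_closure (s := T))
  have hsub : T ⊆ ⋃ t ∈ S, t ∩ T := by
    intro z hz
    obtain ⟨t, ht, hzt⟩ := hST.subset (subset_closure hz)
    exact Set.mem_biUnion ht ⟨hzt, hz⟩
  have hx' := closure_mono hsub hx
  rw [hSf.closure_biUnion, Set.mem_iUnion₂] at hx'
  obtain ⟨t, ht, hxt⟩ := hx'
  obtain ⟨z₀, hz₀t, hz₀T⟩ : (t ∩ T).Nonempty := by
    rw [Set.nonempty_iff_ne_empty]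
    intro he
    rw [he, closure_empty] at hxt
    exact hxt
  obtain ⟨g, hg⟩ := QuasiSober.sober (hSi t ht) (hSc t ht)
  have hxt' : x ∈ t := (hSc t ht).closure_subset (closure_mono Set.inter_subset_left hxt)
  refine ⟨g, hT' ⟨?_, ?_⟩, hg.specializes hxt'⟩
  · exact hST.symm.subset ⟨t, ht, hg.mem⟩
  · exact (hg.specializes hz₀t).mem_open hU (hT hz₀T)

end Groth.Rat20Ext
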