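import Groth.Agent.Rat20Ext.Scheme
import Groth.Agent.PicAux.UFDExtend

/-!
# Test discrete valuation rings through a point
-/

universe u

open CategoryTheory Limits AlgebraicGeometry TopologicalSpace IsLocalRing

namespace Groth.Rat20Ext

variable {X Y : Scheme.{u}}

/-- The morphism to `X` from a valuation subring dominating the local ring at `x`. -/
theorem exists_test {x : X} [IsDomain (X.presheaf.stalk x)]
    (R : ValuationSubring (FractionRing (X.presheaf.stalk x)))
    (h : ∀ a, algebraMap (X.presheaf.stalk x) (FractionRing (X.presheaf.stalk x)) a ∈ R)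
    (hloc : IsLocalHom ((algebraMap (X.presheaf.stalk x)
      (FractionRing (X.presheaf.stalk x))).codRestrict R.toSubring h))
    {U : X.Opens}
    (j : Spec (CommRingCat.of (FractionRing (X.presheaf.stalk x))) ⟶ (U : Scheme.{u}))
    (hj : j ≫ U.ι = genHom x) :
    ∃ (u : Spec (CommRingCat.of R) ⟶ X)
      (e : FractionRing (X.presheaf.stalk x) ≃ₐ[R] FractionRing R),
      u (closedPoint R) = x ∧
      (Spec.map (CommRingCat.ofHom e.toRingEquiv.toRingHom) ≫ j) ≫ U.ι =
        Spec.map (CommRingCat.ofHom (algebraMap R (FractionRing R))) ≫ u ∧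
      u = Spec.map (CommRingCat.ofHom ((algebraMap (X.presheaf.stalk x)
        (FractionRing (X.presheaf.stalk x))).codRestrict R.toSubring h)) ≫ X.fromSpecStalk x := by
  let ι : X.presheaf.stalk x →+* R :=
    (algebraMap (X.presheaf.stalk x) (FractionRing (X.presheaf.stalk x))).codRestrict R.toSubring h
  haveI : IsLocalHom ι := hloc
  let e : FractionRing (X.presheaf.stalk x) ≃ₐ[R] FractionRing R :=
    (FractionRing.algEquiv R (FractionRing (X.presheaf.stalk x))).symm
  refine ⟨Spec.map (CommRingCat.ofHom ι) ≫ X.fromSpecStalk x, e, ?_, ?_, rfl⟩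
  · rw [Scheme.Hom.comp_apply]
    refine (congrArg (X.fromSpecStalk x) ?_).trans Scheme.fromSpecStalk_closedPoint
    exact IsLocalRing.comap_closedPoint ι
  · rw [Category.assoc, hj, genHom, ← Spec.map_comp_assoc, ← Spec.map_comp_assoc]
    congr 2
    ext a
    exact e.commutes (ι a)

/-- If `x` lies outside an open dense `U`, the local ring at `x` is not a field: some element of the
fraction field is not in the local ring. -/
theorem exists_not_mem_range [IsLocallyNoetherian X] {x : X} [IsDomain (X.presheaf.stalk x)]
    {U : X.Opens} (hU : Dense (U : Set X)) (hxU : x ∉ U) :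
    ∃ c : FractionRing (X.presheaf.stalk x),
      c ∉ (algebraMap (X.presheaf.stalk x) (FractionRing (X.presheaf.stalk x))).range := by
  by_contra! hall
  have hsurj : Function.Surjective
      (algebraMap (X.presheaf.stalk x) (FractionRing (X.presheaf.stalk x))) := hall
  obtain ⟨W, hxW, hWi, -⟩ := Groth.PicAux.exists_integral_nhd x
  let s : ↥(Spec (CommRingCat.of (FractionRing (X.presheaf.stalk x)))) :=
    closedPoint (FractionRing (X.presheaf.stalk x))
  refine hxU ?_
  have := genHom_mem hxW hU s
  rwa [genHom, Scheme.Hom.comp_apply,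
    show Spec.map (CommRingCat.ofHom
      (algebraMap (X.presheaf.stalk x) (FractionRing (X.presheaf.stalk x)))) s =
        closedPoint (X.presheaf.stalk x) from ?_, Scheme.fromSpecStalk_closedPoint] at this
  haveI : IsLocalHom (algebraMap (X.presheaf.stalk x) (FractionRing (X.presheaf.stalk x))) :=
    IsLocalHom.of_surjective _ hsurj
  exact IsLocalRing.comap_closedPoint _

end Groth.Rat20Ext
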